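import Groth.Agent.FSchLib.IdealSheaf
import Groth.Agent.AdicRing.Noetherian
import Groth.Prelude.Def_FSch3

/-!
# Systems of thickenings: kernels, adicness, Noetherianity
-/

universe u

namespace Groth.Agent.FSchLib

open CategoryTheory CategoryTheory.Limits AlgebraicGeometry

variable {X Y Z W : Scheme.{u}}

/-- Inverse image commutes with powers of ideal sheaves. -/
theorem comap_pow (f : X ⟶ Y) (I : Y.IdealSheafData) (n : ℕ) : (I ^ n).comap f = I.comap f ^ n := by
  choose U V hx hle using exists_affineOpens_le f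
  refine Scheme.IdealSheafData.ext_of_iSup_eq_top U (top_le_iff.1 fun x _ => ?_) fun x => ?_
  · exact TopologicalSpace.Opens.mem_iSup.2 ⟨x, hx x⟩
  · rw [Scheme.IdealSheafData.ideal_pow, Pi.pow_apply, ideal_comap_eq_map f _ _ _ (hle x),
      ideal_comap_eq_map f _ _ _ (hle x), Scheme.IdealSheafData.ideal_pow, Pi.pow_apply,
      Ideal.map_pow]

theorem iSup_preimage_eq_top (f : X ⟶ Y) {ι : Type*} (U : ι → Y.affineOpens)
    (hU : ⨆ i, (U i).1 = ⊤) : ⨆ i, f ⁻¹ᵁ (U i).1 = ⊤ := by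
  refine top_le_iff.1 fun x _ => ?_
  obtain ⟨i, hi⟩ := TopologicalSpace.Opens.mem_iSup.1 (hU.ge (Set.mem_univ (f x)))
  exact TopologicalSpace.Opens.mem_iSup.2 ⟨i, hi⟩

/-- The kernel of `h` is the inverse image of the kernel of `h ≫ g` under the closed immersion `g`. -/
theorem ker_eq_comap_ker_comp (h : X ⟶ Y) [QuasiCompact h] (g : Y ⟶ W) [IsClosedImmersion g] :
    h.ker = (h ≫ g).ker.comap g := by
  refine Scheme.IdealSheafData.ext_of_iSup_eq_top
    (fun U : W.affineOpens => ⟨g ⁻¹ᵁ U.1, U.2.preimage g⟩)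
    (iSup_preimage_eq_top g (fun U : W.affineOpens => U) (iSup_affineOpens_eq_top W)) fun U => ?_
  rw [ideal_comap_eq_map g _ ⟨g ⁻¹ᵁ U.1, U.2.preimage g⟩ U le_rfl, Scheme.Hom.ker_apply,
    Scheme.Hom.ker_apply, Scheme.Hom.appLE_eq_app, Scheme.Hom.comp_app]
  refine Eq.trans ?_ (congrArg (Ideal.map (g.app U.1).hom) (RingHom.comap_ker _ _))
  exact (Ideal.map_comap_of_surjective _ (g.app_surjective U.1 U.2) _).symm

/-- The kernel of the base change of a closed immersion. -/
theorem ker_of_isPullback {iX : Z ⟶ X} {Zf : Z ⟶ W} {f : X ⟶ Y} {iY : W ⟶ Y}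
    (h : IsPullback iX Zf f iY) [IsClosedImmersion iY] : iX.ker = iY.ker.comap f := by
  rw [← h.isoPullback_hom_fst, Scheme.Hom.ker_comp_of_isIso,
    Scheme.IdealSheafData.ker_fst_of_isClosedImmersion]

theorem range_eq_support_ker (f : X ⟶ Y) [IsClosedImmersion f] :
    Set.range f = (f.ker.support : Set Y) := by
  rw [Scheme.Hom.support_ker, f.isClosedEmbedding.isClosed_range.closure_eq]

variable {𝔛 𝔜 : FSch.Sys.{u}}

theorem isClosedImmersion_toX (h : 𝔛.IsFormal) : ∀ n, IsClosedImmersion (𝔛.toX n)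
  | 0 => by
    have : IsIso (𝔛.toX 0) := inferInstanceAs (IsIso (𝟙 _))
    infer_instance
  | n + 1 => by
    have := isClosedImmersion_toX h n
    have := (h n).1
    exact inferInstanceAs (IsClosedImmersion (𝔛.toX n ≫ 𝔛.ι n))

theorem toX_comp_eq (a : ∀ n, 𝔛.X n ⟶ Y) (comm : ∀ n, 𝔛.ι n ≫ a (n + 1) = a n) :
    ∀ n, 𝔛.toX n ≫ a n = a 0
  | 0 => Category.id_comp _
  | n + 1 => (Category.assoc _ _ _).trans ((comm n).symm ▸ toX_comp_eq a comm n)

/-- A system of closed subschemes cut out by the powers of an ideal sheaf is formal and adic. -/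
theorem isFormal_isAdic_of_embedding (a : ∀ n, 𝔛.X n ⟶ Y) [∀ n, IsClosedImmersion (a n)]
    (comm : ∀ n, 𝔛.ι n ≫ a (n + 1) = a n) (I : Y.IdealSheafData)
    (hker : ∀ n, (a n).ker = I ^ (n + 1)) : 𝔛.IsFormal ∧ 𝔛.IsAdic := by
  have hci : ∀ n, IsClosedImmersion (𝔛.ι n) := fun n => by
    have : IsClosedImmersion (𝔛.ι n ≫ a (n + 1)) := comm n ▸ inferInstance
    exact IsClosedImmersion.of_comp_isClosedImmersion _ (a (n + 1))
  have hsurj : ∀ n, Function.Surjective (𝔛.ι n).base := by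
    intro n x
    have hx : (a (n + 1)) x ∈ Set.range (a n) := by
      rw [range_eq_support_ker, hker, Scheme.IdealSheafData.support_pow_succ,
        ← Scheme.IdealSheafData.support_pow_succ I (n + 1), ← hker, ← range_eq_support_ker]
      exact ⟨x, rfl⟩
    obtain ⟨y, hy⟩ := hx
    refine ⟨y, (a (n + 1)).isClosedEmbedding.injective ?_⟩
    rw [← hy, ← comm n]
    rfl
  have hF : 𝔛.IsFormal := fun n => ⟨hci n, hsurj n⟩
  refine ⟨hF, fun n => ?_⟩
  have := hci n
  have := isClosedImmersion_toX hF (n + 1)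
  rw [ker_eq_comap_ker_comp (𝔛.ι n) (a (n + 1)), ker_eq_comap_ker_comp (𝔛.toX (n + 1)) (a (n + 1)),
    comm n, toX_comp_eq a comm, hker, hker, zero_add, pow_one, comap_pow]

theorem isAdicComplete_of_pow_eq_bot {A : Type*} [CommRing A] {J : Ideal A} {m : ℕ}
    (h : J ^ m = ⊥) : IsAdicComplete J A where
  haus' x hx := by
    simpa [SModEq.zero, h] using hx m
  prec' f hf := by
    refine ⟨f m, fun n => ?_⟩
    rcases le_total n m with hnm | hnm
    · exact hf hnm
    · have := (hf hnm).symm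
      rw [SModEq.sub_mem] at this ⊢
      simp only [h, Submodule.bot_smul, Submodule.mem_bot] at this
      simp [this]

theorem fg_of_le_sup_pow {A : Type*} [CommRing A] {N N₀ : Ideal A} {m : ℕ} (hm : N ^ m = ⊥)
    (h₀ : N₀ ≤ N) (h : N ≤ N₀ ⊔ N ^ 2) : N = N₀ := by
  have key : ∀ k, N ≤ N₀ ⊔ N ^ (k + 1) := by
    intro k
    induction k with
    | zero => simp
    | succ k ih =>
      calc N ≤ N₀ ⊔ N ^ 2 := h
        _ ≤ N₀ ⊔ (N * (N₀ ⊔ N ^ (k + 1))) := by
            rw [sq]; exact sup_le_sup_left (Ideal.mul_mono_right ih) _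
        _ ≤ N₀ ⊔ N ^ (k + 2) := by
            rw [Ideal.mul_sup, pow_succ' N (k + 1)]
            exact sup_le le_sup_left (sup_le_sup_right Ideal.mul_le_right _)
  refine le_antisymm ((key m).trans ?_) h₀
  rw [pow_succ, hm]
  simp

theorem exists_fg_le_map_eq {A B : Type*} [CommRing A] [CommRing B] (π : A →+* B)
    (hπ : Function.Surjective π) {J : Ideal B} (hJ : J.FG) :
    ∃ N₀ : Ideal A, N₀.FG ∧ N₀ ≤ J.comap π ∧ N₀.map π = J := by
  classical
  obtain ⟨t, ht⟩ := hJ
  choose g hg using hπ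
  refine ⟨Ideal.span (g '' t), Submodule.fg_span (t.finite_toSet.image g), ?_, ?_⟩
  · rw [Ideal.span_le]
    rintro _ ⟨b, hb, rfl⟩
    rw [SetLike.mem_coe, Ideal.mem_comap, hg, ← ht]
    exact Ideal.subset_span hb
  · rw [Ideal.map_span, ← Set.image_comp, show π ∘ g = id from funext hg, Set.image_id]
    exact ht

/-- The inductive step: an adic thickening of a locally Noetherian scheme with finitely generated
first ideal is locally Noetherian. -/
theorem isLocallyNoetherian_of_adic (hF : 𝔛.IsFormal) (hA : 𝔛.IsAdic)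
    [IsLocallyNoetherian (𝔛.X 0)]
    (hft : ∀ x : 𝔛.X 2, ∃ U : (𝔛.X 2).affineOpens, x ∈ U.1 ∧ ∀ (h : IsAffineOpen (𝔛.ι 1 ⁻¹ᵁ U.1)),
      ((𝔛.ι 0).ker.ideal ⟨_, h⟩).FG) :
    ∀ n, IsLocallyNoetherian (𝔛.X n) := by
  intro n
  induction n with
  | zero => infer_instance
  | succ n ih =>
    have := (hF (n + 1)).1
    have := (hF n).1
    have := isClosedImmersion_toX hF n
    have := isClosedImmersion_toX hF (n + 1)
    have := isClosedImmersion_toX hF (n + 2)
    let P : (𝔛.X (n + 2)).affineOpens → Prop := fun U => n = 0 →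
      ((𝔛.ι n).ker.ideal ⟨_, U.2.preimage (𝔛.ι (n + 1))⟩).FG
    have hcov : ∀ x, ∃ U, x ∈ U.1 ∧ P U := by
      intro x
      by_cases hn : n = 0
      · subst hn
        obtain ⟨U, hU, hfg⟩ := hft x
        exact ⟨U, hU, fun _ => hfg _⟩
      · obtain ⟨U, hU, hxU, -⟩ := exists_isAffineOpen_mem_and_subset (x := x) (U := ⊤) (Set.mem_univ _)
        exact ⟨⟨U, hU⟩, hxU, fun h => absurd h hn⟩
    choose U' hxU hP using hcov
    let U : 𝔛.X (n + 2) → (𝔛.X (n + 1)).affineOpens :=
      fun x => ⟨_, (U' x).2.preimage (𝔛.ι (n + 1))⟩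
    refine (isLocallyNoetherian_iff_of_iSup_eq_top (S := U)
      (iSup_preimage_eq_top _ U' (top_le_iff.1 fun x _ =>
        TopologicalSpace.Opens.mem_iSup.2 ⟨x, hxU x⟩))).2 fun x => ?_
    set N : Ideal Γ(𝔛.X (n + 1), (U x).1) := (𝔛.toX (n + 1)).ker.ideal (U x) with hN
    -- nilpotency
    have hnil : N ^ (n + 2) = ⊥ := by
      have hπ := (𝔛.ι (n + 1)).app_surjective (U' x).1 (U' x).2
      set π := ((𝔛.ι (n + 1)).app (U' x).1).hom
      set N' := (𝔛.toX (n + 2)).ker.ideal (U' x) with hN'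
      have h1 : N' = N.comap π := by
        rw [hN', hN, Scheme.Hom.ker_apply, Scheme.Hom.ker_apply,
          show 𝔛.toX (n + 2) = 𝔛.toX (n + 1) ≫ 𝔛.ι (n + 1) from rfl, Scheme.Hom.comp_app]
        exact (RingHom.comap_ker _ _).symm
      have h2 : RingHom.ker π = N' ^ (n + 2) := by
        have := congrArg (fun I => Scheme.IdealSheafData.ideal I (U' x)) (hA (n + 1))
        simpa [Scheme.Hom.ker_apply, hN'] using this
      calc N ^ (n + 2) = (N'.map π) ^ (n + 2) := by rw [h1, Ideal.map_comap_of_surjective _ hπ]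
        _ = (RingHom.ker π).map π := by rw [← Ideal.map_pow, h2]
        _ = ⊥ := by rw [Ideal.map_eq_bot_iff_le_ker]
    -- the quotient is Noetherian
    have hquot : IsNoetherianRing (Γ(𝔛.X (n + 1), (U x).1) ⧸ N) := by
      have := IsLocallyNoetherian.component_noetherian
        (X := 𝔛.X 0) ⟨_, (U x).2.preimage (𝔛.toX (n + 1))⟩
      have hN2 : N = RingHom.ker ((𝔛.toX (n + 1)).app (U x).1).hom := Scheme.Hom.ker_apply ..
      rw [hN2]
      exact isNoetherianRing_of_ringEquiv _ (RingHom.quotientKerEquivOfSurjective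
        ((𝔛.toX (n + 1)).app_surjective (U x).1 (U x).2)).symm
    -- finite generation
    have hfg : N.FG := by
      have hπ := (𝔛.ι n).app_surjective (U x).1 (U x).2
      set π := ((𝔛.ι n).app (U x).1).hom
      set W : (𝔛.X n).affineOpens := ⟨_, (U x).2.preimage (𝔛.ι n)⟩
      have := IsLocallyNoetherian.component_noetherian W
      have h1 : N = ((𝔛.toX n).ker.ideal W).comap π := by
        rw [hN, Scheme.Hom.ker_apply, Scheme.Hom.ker_apply,
          show 𝔛.toX (n + 1) = 𝔛.toX n ≫ 𝔛.ι n from rfl, Scheme.Hom.comp_app]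
        exact (RingHom.comap_ker _ _).symm
      have h2 : RingHom.ker π = N ^ (n + 1) := by
        have := congrArg (fun I => Scheme.IdealSheafData.ideal I (U x)) (hA n)
        simpa [Scheme.Hom.ker_apply, hN] using this
      rcases Nat.eq_zero_or_pos n with hn | hn
      · have := hP x hn
        rw [Scheme.Hom.ker_apply] at this
        change (RingHom.ker π).FG at this
        rw [h2] at this
        have e : N ^ (n + 1) = N := by subst hn; simp
        rwa [e] at this
      · obtain ⟨N₀, hN₀, hle, hmap⟩ := exists_fg_le_map_eq π hπ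
          (IsNoetherian.noetherian ((𝔛.toX n).ker.ideal W))
        rw [fg_of_le_sup_pow hnil (h1 ▸ hle) ?_]
        · exact hN₀
        · calc N = (N₀.map π).comap π := by rw [hmap, h1]
            _ = N₀ ⊔ RingHom.ker π := by rw [Ideal.comap_map_of_surjective' π hπ]
            _ ≤ N₀ ⊔ N ^ 2 := by
              rw [h2]; exact sup_le_sup_left (Ideal.pow_le_pow_right (by omega)) _
    have := isAdicComplete_of_pow_eq_bot hnil
    exact AdicRing.isNoetherianRing_of_isAdicComplete N hfg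

section Affine

variable (A B : Type u) [CommRing A] [CommRing B]

theorem idealSpec_ideal_top (J : Ideal A) :
    (FSch.idealSpec A J).ideal ⟨⊤, isAffineOpen_top _⟩ =
      J.map (Scheme.ΓSpecIso (CommRingCat.of A)).inv.hom := by
  set q := CommRingCat.ofHom (Ideal.Quotient.mk J)
  set e := (Scheme.ΓSpecIso (CommRingCat.of A)).commRingCatIsoToRingEquiv
  rw [FSch.idealSpec, Scheme.Hom.ker_apply]
  change RingHom.ker (Spec.map q).appTop.hom = _
  have h2 : (RingHom.ker (Spec.map q).appTop.hom).comap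
      (Scheme.ΓSpecIso (CommRingCat.of A)).inv.hom = J := by
    rw [RingHom.comap_ker, ← CommRingCat.hom_comp, ← Scheme.ΓSpecIso_inv_naturality,
      CommRingCat.hom_comp, RingHom.ker_comp_of_injective]
    · exact Ideal.mk_ker
    · exact (ConcreteCategory.bijective_of_isIso
        (Scheme.ΓSpecIso (CommRingCat.of (A ⧸ J))).inv).1
  conv_rhs => rw [← h2]
  exact (Ideal.map_comap_of_surjective _
    (ConcreteCategory.bijective_of_isIso (Scheme.ΓSpecIso (CommRingCat.of A)).inv).2 _).symm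

theorem idealSpec_pow (J : Ideal A) (n : ℕ) :
    FSch.idealSpec A (J ^ n) = FSch.idealSpec A J ^ n :=
  Scheme.IdealSheafData.ext_of_isAffine (by
    rw [idealSpec_ideal_top, Scheme.IdealSheafData.ideal_pow, Pi.pow_apply, idealSpec_ideal_top,
      Ideal.map_pow])

theorem idealSpec_comap (φ : B →+* A) (b : Ideal B) :
    (FSch.idealSpec B b).comap (Spec.map (CommRingCat.ofHom φ)) = FSch.idealSpec A (b.map φ) := by
  refine Scheme.IdealSheafData.ext_of_isAffine ?_
  rw [ideal_comap_top_of_isAffine, idealSpec_ideal_top, idealSpec_ideal_top, Ideal.map_map,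
    Ideal.map_map, ← CommRingCat.hom_comp, ← Scheme.ΓSpecIso_inv_naturality, CommRingCat.hom_comp,
    CommRingCat.hom_ofHom]

theorem ker_specQuot (I : Ideal A) (n : ℕ) :
    (CohB1.specQuot I n).ker = FSch.idealSpec A I ^ (n + 1) :=
  idealSpec_pow A I (n + 1)

end Affine

theorem isLocNoethFormal_of_embedding [IsLocallyNoetherian Y] (a : ∀ n, 𝔛.X n ⟶ Y)
    [∀ n, IsClosedImmersion (a n)] (comm : ∀ n, 𝔛.ι n ≫ a (n + 1) = a n) (I : Y.IdealSheafData)
    (hker : ∀ n, (a n).ker = I ^ (n + 1)) : 𝔛.IsLocNoethFormal :=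
  ⟨(isFormal_isAdic_of_embedding a comm I hker).1, (isFormal_isAdic_of_embedding a comm I hker).2,
    fun n => LocallyOfFiniteType.isLocallyNoetherian (a n)⟩

theorem isLocNoethFormal_completionAlong [IsLocallyNoetherian X] (I : X.IdealSheafData) :
    (FSch.completionAlong X I).IsLocNoethFormal := by
  have : ∀ n, IsClosedImmersion (FSch.completionToX X I n) := fun n =>
    inferInstanceAs (IsClosedImmersion (I ^ (n + 1)).subschemeι)
  exact isLocNoethFormal_of_embedding (FSch.completionToX X I)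
    (fun n => Scheme.IdealSheafData.inclusion_subschemeι _) I
    (fun n => Scheme.IdealSheafData.ker_subschemeι _)

theorem isLocNoethFormal_spf (A : Type u) [CommRing A] [IsNoetherianRing A] (J : Ideal A) :
    (FSch.spf A J).IsLocNoethFormal := by
  have : ∀ n, IsClosedImmersion (FSch.spfToSpec A J n) := fun n =>
    IsClosedImmersion.spec_of_surjective _ Ideal.Quotient.mk_surjective
  exact isLocNoethFormal_of_embedding (FSch.spfToSpec A J)
    (fun n => CohB1.specQuotTrans_specQuot J n) (FSch.idealSpec A J) (ker_specQuot A J)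

theorem ideal_top_ker_specMap {A B : Type u} [CommRing A] [CommRing B] (f : A →+* B) :
    (Spec.map (CommRingCat.ofHom f)).ker.ideal ⟨⊤, isAffineOpen_top _⟩ =
      (RingHom.ker f).map (Scheme.ΓSpecIso (CommRingCat.of A)).inv.hom := by
  rw [Scheme.Hom.ker_apply]
  have h2 : (RingHom.ker (Spec.map (CommRingCat.ofHom f)).appTop.hom).comap
      (Scheme.ΓSpecIso (CommRingCat.of A)).inv.hom = RingHom.ker f := by
    rw [RingHom.comap_ker, ← CommRingCat.hom_comp, ← Scheme.ΓSpecIso_inv_naturality,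
      CommRingCat.hom_comp, RingHom.ker_comp_of_injective]
    · rfl
    · exact (ConcreteCategory.bijective_of_isIso
        (Scheme.ΓSpecIso (CommRingCat.of B)).inv).1
  conv_rhs => rw [← h2]
  exact (Ideal.map_comap_of_surjective _
    (ConcreteCategory.bijective_of_isIso (Scheme.ΓSpecIso (CommRingCat.of A)).inv).2 _).symm

theorem ker_specMap {A B : Type u} [CommRing A] [CommRing B] (f : A →+* B) :
    (Spec.map (CommRingCat.ofHom f)).ker = FSch.idealSpec A (RingHom.ker f) :=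
  Scheme.IdealSheafData.ext_of_isAffine
    ((ideal_top_ker_specMap f).trans (idealSpec_ideal_top A _).symm)

theorem idealSpec_injective (A : Type u) [CommRing A] :
    Function.Injective (FSch.idealSpec A) := by
  intro J J' h
  have := congrArg (fun I => Scheme.IdealSheafData.ideal I ⟨⊤, isAffineOpen_top _⟩) h
  simp only [idealSpec_ideal_top] at this
  have hb := ConcreteCategory.bijective_of_isIso (Scheme.ΓSpecIso (CommRingCat.of A)).inv
  have := congrArg (Ideal.comap (Scheme.ΓSpecIso (CommRingCat.of A)).inv.hom) this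
  rwa [Ideal.comap_map_of_bijective _ hb, Ideal.comap_map_of_bijective _ hb] at this

theorem isPullback_toX {f : 𝔛 ⟶ 𝔜} (hf : FSch.IsAdicHom f) :
    ∀ n, IsPullback (𝔛.toX n) ((f : FSch.Hom 𝔛 𝔜).app 0) ((f : FSch.Hom 𝔛 𝔜).app n) (𝔜.toX n)
  | 0 => IsPullback.of_horiz_isIso (fst := 𝟙 _) (g := 𝟙 _) ⟨(Category.id_comp _).trans (Category.comp_id _).symm⟩
  | n + 1 => (isPullback_toX hf n).paste_horiz (hf n)

/-- An adic system over a locally Noetherian adic formal system is again one. -/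
theorem isLocNoethFormal_of_isAdicHom {f : 𝔛 ⟶ 𝔜} (h : 𝔜.IsLocNoethFormal)
    (hf : FSch.IsAdicHom f) [IsLocallyNoetherian (𝔛.X 0)] : 𝔛.IsLocNoethFormal := by
  obtain ⟨hF, hA, hN⟩ := h
  have hF' : 𝔛.IsFormal := fun n => by
    have := (hF n).1
    have hs : AlgebraicGeometry.Surjective (𝔜.ι n) := ⟨(hF n).2⟩
    exact ⟨MorphismProperty.of_isPullback (P := @IsClosedImmersion) (hf n).flip ‹_›,
      (MorphismProperty.of_isPullback (P := @AlgebraicGeometry.Surjective) (hf n).flip hs).surj⟩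
  have hA' : 𝔛.IsAdic := fun n => by
    have := (hF n).1
    have := isClosedImmersion_toX hF (n + 1)
    rw [ker_of_isPullback (hf n), ker_of_isPullback (isPullback_toX hf (n + 1)), hA n, comap_pow]
  refine ⟨hF', hA', isLocallyNoetherian_of_adic hF' hA' fun x => ?_⟩
  have := (hF 0).1
  have := (hF 1).1
  obtain ⟨V, hV, hxV, -⟩ := exists_isAffineOpen_mem_and_subset
    (x := ((f : FSch.Hom 𝔛 𝔜).app 2) x) (U := ⊤) (Set.mem_univ _)
  obtain ⟨U, hU, hxU, hUV⟩ := exists_isAffineOpen_mem_and_subset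
    (x := x) (U := ((f : FSch.Hom 𝔛 𝔜).app 2) ⁻¹ᵁ V) hxV
  refine ⟨⟨U, hU⟩, hxU, fun hU1 => ?_⟩
  have hle : 𝔛.ι 1 ⁻¹ᵁ U ≤ ((f : FSch.Hom 𝔛 𝔜).app 1) ⁻¹ᵁ (𝔜.ι 1 ⁻¹ᵁ V) := by
    intro y hy
    have h1 : (((f : FSch.Hom 𝔛 𝔜).app 1) ≫ 𝔜.ι 1) y = ((f : FSch.Hom 𝔛 𝔜).app 2) (𝔛.ι 1 y) := by
      rw [(f : FSch.Hom 𝔛 𝔜).comm 1]; rfl
    exact (show (((f : FSch.Hom 𝔛 𝔜).app 1) ≫ 𝔜.ι 1) y ∈ V from h1 ▸ hUV hy)
  have := hN 1
  rw [ker_of_isPullback (hf 0), ideal_comap_eq_map _ _ ⟨_, hU1⟩ ⟨_, hV.preimage (𝔜.ι 1)⟩ hle]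
  have := IsLocallyNoetherian.component_noetherian (X := 𝔜.X 1) ⟨_, hV.preimage (𝔜.ι 1)⟩
  exact Ideal.FG.map (IsNoetherian.noetherian _) _

/-- A square of systems which is cartesian at every level is cartesian. -/
theorem isPullback_sys_of_levelwise {𝔓 ℨ : FSch.Sys.{u}} {a : 𝔓 ⟶ 𝔛} {b : 𝔓 ⟶ 𝔜} {f : 𝔛 ⟶ ℨ}
    {g : 𝔜 ⟶ ℨ} (H : ∀ n, IsPullback ((a : FSch.Hom _ _).app n) ((b : FSch.Hom _ _).app n)
      ((f : FSch.Hom _ _).app n) ((g : FSch.Hom _ _).app n)) : IsPullback a b f g := by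
  refine IsPullback.of_isLimit' ⟨FSch.Hom.ext (funext fun n => (H n).w)⟩
    (PullbackCone.IsLimit.mk _
      (fun s => ⟨fun n => (H n).lift ((s.fst : FSch.Hom _ _).app n) ((s.snd : FSch.Hom _ _).app n)
        (congrArg (fun h : s.pt ⟶ ℨ => (h : FSch.Hom _ _).app n) s.condition), fun n => ?_⟩)
      (fun s => FSch.Hom.ext (funext fun n => (H n).lift_fst _ _ _))
      (fun s => FSch.Hom.ext (funext fun n => (H n).lift_snd _ _ _))
      (fun s m h1 h2 => FSch.Hom.ext (funext fun n => (H n).hom_ext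
        ((congrArg (fun h : s.pt ⟶ 𝔛 => (h : FSch.Hom _ _).app n) h1).trans
          ((H n).lift_fst _ _ _).symm)
        ((congrArg (fun h : s.pt ⟶ 𝔜 => (h : FSch.Hom _ _).app n) h2).trans
          ((H n).lift_snd _ _ _).symm))))
  apply (H (n + 1)).hom_ext
  · rw [Category.assoc, Category.assoc, IsPullback.lift_fst, ← (a : FSch.Hom _ _).comm n,
      IsPullback.lift_fst_assoc]
    exact (s.fst : FSch.Hom _ _).comm n
  · rw [Category.assoc, Category.assoc, IsPullback.lift_snd, ← (b : FSch.Hom _ _).comm n,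
      IsPullback.lift_snd_assoc]
    exact (s.snd : FSch.Hom _ _).comm n

end Groth.Agent.FSchLib
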