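import Groth.Agent.FlatCrit.Tor
import Groth.Agent.Matlis6.CompletionNoetherian
import Groth.Prelude.Def_FSch3
import Mathlib.RingTheory.AdicCompletion.AsTensorProduct
import Mathlib.RingTheory.AdicCompletion.Completeness
import Mathlib.RingTheory.AdicCompletion.LocalRing
import Mathlib.RingTheory.RingHom.Flat

/-!
# Adic completions of rings and the maps between them
-/

universe u

namespace Groth.Agent.FSchLib

open TensorProduct

variable {R : Type u} [CommRing R] (I : Ideal R)

theorem evalₐ_algebraMap (n : ℕ) (r : R) :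
    AdicCompletion.evalₐ I n (algebraMap R (AdicCompletion I R) r) = Ideal.Quotient.mk _ r := by
  rw [AdicCompletion.algebraMap_apply, AdicCompletion.evalₐ_of]
  rfl

theorem ker_evalₐ (hI : I.FG) (n : ℕ) :
    RingHom.ker (AdicCompletion.evalₐ I n).toRingHom =
      (I.map (algebraMap R (AdicCompletion I R))) ^ n := by
  rw [← Ideal.map_pow]
  refine SetLike.ext fun x => ?_
  have h1 : AdicCompletion.evalₐ I n x = 0 ↔ AdicCompletion.eval I R n x = 0 := by
    constructor <;> intro h
    · rw [← AdicCompletion.factor_evalₐ_eq_eval I x (by simp), h, map_zero]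
    · rw [← AdicCompletion.factor_eval_eq_evalₐ I x (by simp), h, map_zero]
  refine h1.trans ?_
  rw [← LinearMap.mem_ker, ← AdicCompletion.pow_smul_top_eq_ker_eval hI, Ideal.smul_top_eq_map]
  rfl

theorem map_le_jacobson (hI : I.FG) :
    I.map (algebraMap R (AdicCompletion I R)) ≤ Ideal.jacobson ⊥ :=
  have := AdicCompletion.isAdicComplete_self I hI
  IsAdicComplete.le_jacobson_bot _

variable {T : Type u} [CommRing T] (K : Ideal T) (g : R →+* T)

theorem evalₐ_complMap (h : I.map g ≤ K) (n : ℕ) (x : AdicCompletion I R) :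
    AdicCompletion.evalₐ K n (FSch.complMap I K g h x) =
      Ideal.quotientMap (K ^ n) g (FSch.pow_le_comap_pow_of_map_le I K g h n)
        (AdicCompletion.evalₐ I n x) := by
  unfold FSch.complMap
  generalize_proofs h1 h2 h3 h4
  exact AdicCompletion.evalₐ_liftRingHom K _ (by assumption) n x

theorem complMap_algebraMap (h : I.map g ≤ K) (r : R) :
    FSch.complMap I K g h (algebraMap R (AdicCompletion I R) r) =
      algebraMap T (AdicCompletion K T) (g r) := by
  refine AdicCompletion.ext_evalₐ fun n => ?_
  rw [evalₐ_complMap, evalₐ_algebraMap, evalₐ_algebraMap, Ideal.quotientMap_mk]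

/-- The completion of a flat map between Noetherian rings is flat. -/
theorem flat_complMap [IsNoetherianRing R] [IsNoetherianRing T] (hg : g.Flat) (hK : I.map g = K) :
    (FSch.complMap I K g hK.le).Flat := by
  let R' := AdicCompletion I R
  let T' := AdicCompletion K T
  have hI : I.FG := IsNoetherian.noetherian I
  have hKfg : K.FG := IsNoetherian.noetherian K
  letI : Algebra R T := g.toAlgebra
  haveI : Module.Flat R T := hg
  letI : Algebra R' T' := (FSch.complMap I K g hK.le).toAlgebra
  haveI : IsScalarTower R T T' := .of_algebraMap_eq fun r => by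
    rw [AdicCompletion.algebraMap_apply, AdicCompletion.algebraMap_apply]
    rfl
  haveI : IsScalarTower R R' T' := .of_algebraMap_eq fun r => by
    rw [IsScalarTower.algebraMap_apply R T T']
    exact (complMap_algebraMap I K g hK.le r).symm
  haveI : Module.Flat R T' := Module.Flat.trans R T T'
  haveI : IsNoetherianRing R' := Matlis6.isNoetherianRing_adicCompletion I
  haveI : IsNoetherianRing T' := Matlis6.isNoetherianRing_adicCompletion K
  refine FlatCrit.flat_of_quotFlat_pow (R := R') (S := T') (M := T') (I.map (algebraMap R R'))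
    ?_ fun n => ?_
  · rw [Ideal.map_map, ← IsScalarTower.algebraMap_eq, IsScalarTower.algebraMap_eq R T T',
      ← Ideal.map_map]
    exact (Ideal.map_mono hK.le).trans (map_le_jacobson K hKfg)
  intro A B _ _ _ _ i hB hi
  letI : Module R A := Module.compHom A (algebraMap R R')
  letI : Module R B := Module.compHom B (algebraMap R R')
  haveI : IsScalarTower R R' A := .of_algebraMap_smul fun _ _ => rfl
  haveI : IsScalarTower R R' B := .of_algebraMap_smul fun _ _ => rfl
  have hker : ∀ (C : Type u) [AddCommGroup C] [Module R' C] [Module R C] [IsScalarTower R R' C],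
      (∀ r ∈ (I.map (algebraMap R R')) ^ n, ∀ c : C, r • c = 0) →
        CompatibleSMul R R' C T' := by
    intro C _ _ _ _ hC
    refine ⟨fun r' c m => ?_⟩
    obtain ⟨r, hr⟩ := Ideal.Quotient.mk_surjective (AdicCompletion.evalₐ I n r')
    set ε := r' - algebraMap R R' r with hε
    have hεmem : ε ∈ (I ^ n).map (algebraMap R R') := by
      rw [Ideal.map_pow, ← ker_evalₐ I hI n, RingHom.mem_ker]
      change AdicCompletion.evalₐ I n ε = 0
      rw [hε, map_sub, evalₐ_algebraMap, hr, sub_self]
    have hr' : r' = algebraMap R R' r + ε := by rw [hε, add_sub_cancel]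
    have hεc : ∀ c : C, ε • c = 0 := hC ε (by rwa [← Ideal.map_pow])
    have hεm : ∀ (c : C) (m : T'), c ⊗ₜ[R] (ε • m) = 0 := by
      intro c m
      refine Submodule.span_induction (p := fun e _ => ∀ m : T', c ⊗ₜ[R] (e • m) = 0) ?_
        (fun m => by simp) (fun _ _ _ _ h1 h2 m => by rw [add_smul, tmul_add, h1, h2, add_zero])
        (fun a e _ h1 m => by rw [smul_eq_mul, mul_comm, mul_smul, h1]) hεmem m
      rintro _ ⟨x, hx, rfl⟩ m
      rw [algebraMap_smul, ← smul_tmul, ← algebraMap_smul R' x c,
        hC _ (by rw [← Ideal.map_pow]; exact Ideal.mem_map_of_mem _ hx) c, zero_tmul]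
    rw [hr', add_smul, add_smul, tmul_add, add_tmul, hεc, zero_tmul, hεm, algebraMap_smul,
      algebraMap_smul, smul_tmul]
  haveI := hker A (fun r hr a => hi (by rw [map_smul, map_zero, hB r hr]))
  haveI := hker B hB
  let eA := TensorProduct.equivOfCompatibleSMul R R' R A T'
  let eB := TensorProduct.equivOfCompatibleSMul R R' R B T'
  have hflat : Function.Injective ((i.restrictScalars R).rTensor T') :=
    Module.Flat.rTensor_preserves_injective_linearMap _ hi
  have hcomm : ∀ x, eB.symm ((i.restrictScalars R).rTensor T' (eA x)) = i.rTensor T' x := by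
    intro x
    induction x using TensorProduct.induction_on with
    | zero => simp
    | tmul a t => rfl
    | add x y hx hy => simp [hx, hy]
  intro x y hxy
  rw [← hcomm, ← hcomm] at hxy
  exact eA.injective (hflat (eB.symm.injective hxy))

omit [CommRing T] in
/-- An element of a completion is a unit as soon as it is one modulo `I`. -/
theorem isUnit_of_isUnit_evalₐ_one (x : AdicCompletion I R)
    (hx : IsUnit (AdicCompletion.evalₐ I 1 x)) : IsUnit x := by
  obtain ⟨c, rfl⟩ := AdicCompletion.mk_surjective I R x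
  rw [AdicCompletion.evalₐ_mk] at hx
  obtain ⟨t, ht⟩ := hx.exists_right_inv
  obtain ⟨t, rfl⟩ := Ideal.Quotient.mk_surjective t
  have key : ∀ n, ∃ s : R, c n * s - 1 ∈ I ^ n := by
    intro n
    rcases Nat.eq_zero_or_pos n with hn | hn
    · exact ⟨0, by simp [hn]⟩
    have h1 : c n * t - 1 ∈ I := by
      have h0 : c n - c 1 ∈ I := by
        have := AdicCompletion.Ideal.mk_eq_mk I hn c
        rwa [Ideal.Quotient.eq, pow_one] at this
      have h2 : c 1 * t - 1 ∈ I := by
        rw [← map_mul, ← map_one (Ideal.Quotient.mk (I ^ 1)), Ideal.Quotient.eq, pow_one] at ht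
        exact ht
      rw [show c n * t - 1 = (c n - c 1) * t + (c 1 * t - 1) by ring]
      exact add_mem (Ideal.mul_mem_right _ _ h0) h2
    have hnil : IsNilpotent (Ideal.Quotient.mk (I ^ n) (c n * t - 1)) :=
      ⟨n, by rw [← map_pow, Ideal.Quotient.eq_zero_iff_mem]; exact Ideal.pow_mem_pow h1 n⟩
    have hu : IsUnit (Ideal.Quotient.mk (I ^ n) (c n)) := by
      have h3 := hnil.isUnit_add_one
      rw [← map_one (Ideal.Quotient.mk (I ^ n)), ← map_add, sub_add_cancel, map_mul] at h3
      exact isUnit_of_mul_isUnit_left h3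
    obtain ⟨s, hs⟩ := hu.exists_right_inv
    obtain ⟨s, rfl⟩ := Ideal.Quotient.mk_surjective s
    exact ⟨s, Ideal.Quotient.eq.1 (by rw [map_mul, hs, map_one])⟩
  choose s hs using key
  have hcauchy : ∀ n, s n ≡ s (n + 1) [SMOD (I ^ n • ⊤ : Submodule R R)] := by
    intro n
    rw [SModEq.sub_mem, smul_eq_mul, Ideal.mul_top]
    have h0 : c (n + 1) - c n ∈ I ^ n :=
      Ideal.Quotient.eq.1 (AdicCompletion.Ideal.mk_eq_mk I n.le_succ c)
    rw [show s n - s (n + 1) =
      s (n + 1) * (c n * s n - 1) - s n * (c (n + 1) * s (n + 1) - 1) +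
        s n * s (n + 1) * (c (n + 1) - c n) by ring]
    exact add_mem (sub_mem (Ideal.mul_mem_left _ _ (hs n)) (Ideal.mul_mem_left _ _
      (Ideal.pow_le_pow_right n.le_succ (hs (n + 1))))) (Ideal.mul_mem_left _ _ h0)
  refine IsUnit.of_mul_eq_one
    (AdicCompletion.mk I R (AdicCompletion.AdicCauchySequence.mk I R s hcauchy))
    (AdicCompletion.ext_evalₐ fun n => ?_)
  rw [map_mul, map_one, AdicCompletion.evalₐ_mk, AdicCompletion.evalₐ_mk, ← map_mul,
    ← map_one (Ideal.Quotient.mk (I ^ n)), Ideal.Quotient.eq]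
  exact hs n

theorem complMap_complMap {U : Type u} [CommRing U] (L : Ideal U) (g' : T →+* U) (h : I.map g ≤ K)
    (h' : K.map g' ≤ L) (h'' : I.map (g'.comp g) ≤ L) (x : AdicCompletion I R) :
    FSch.complMap K L g' h' (FSch.complMap I K g h x) = FSch.complMap I L (g'.comp g) h'' x := by
  refine AdicCompletion.ext_evalₐ fun n => ?_
  rw [evalₐ_complMap, evalₐ_complMap, evalₐ_complMap]
  obtain ⟨r, hr⟩ := Ideal.Quotient.mk_surjective (AdicCompletion.evalₐ I n x)
  rw [← hr]
  simp

end Groth.Agent.FSchLib
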