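import Mathlib.AlgebraicGeometry.IdealSheaf.Functorial
import Mathlib.AlgebraicGeometry.Morphisms.ClosedImmersion
import Mathlib.AlgebraicGeometry.Morphisms.Affine
import Mathlib.AlgebraicGeometry.Restrict

/-!
# Inverse images of quasi-coherent ideal sheaves on affine opens
-/

universe u

namespace Groth.Agent.FSchLib

open CategoryTheory AlgebraicGeometry

variable {X Y : Scheme.{u}}

/-- Inverse image between affine schemes is extension of ideals. -/
theorem ideal_comap_top_of_isAffine [IsAffine X] [IsAffine Y] (f : X ⟶ Y) (J : Y.IdealSheafData) :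
    (J.comap f).ideal ⟨⊤, isAffineOpen_top X⟩ =
      (J.ideal ⟨⊤, isAffineOpen_top Y⟩).map f.appTop.hom := by
  have key : ∀ I : X.IdealSheafData, J.comap f ≤ I ↔
      (J.ideal ⟨⊤, isAffineOpen_top Y⟩).map f.appTop.hom ≤ I.ideal ⟨⊤, isAffineOpen_top X⟩ := by
    intro I
    rw [← Scheme.IdealSheafData.le_map_iff_comap_le, Ideal.map_le_iff_le_comap]
    have h : (I.map f).ideal ⟨⊤, isAffineOpen_top Y⟩ =
        (I.ideal ⟨⊤, isAffineOpen_top X⟩).comap f.appTop.hom :=
      Scheme.IdealSheafData.ideal_map_of_isAffineHom I f ⟨⊤, isAffineOpen_top Y⟩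
    rw [← h]
    exact ⟨fun hle => hle _, fun hle => Scheme.IdealSheafData.le_of_isAffine hle⟩
  refine le_antisymm ?_ ((key _).1 le_rfl)
  let I₀ := Scheme.IdealSheafData.ofIdealTop
    ((J.ideal ⟨⊤, isAffineOpen_top Y⟩).map f.appTop.hom)
  have h0 : I₀.ideal ⟨⊤, isAffineOpen_top X⟩ =
      (J.ideal ⟨⊤, isAffineOpen_top Y⟩).map f.appTop.hom := by
    simp [I₀, Scheme.IdealSheafData.ofIdealTop_ideal]
  exact h0 ▸ ((key I₀).2 h0.ge : J.comap f ≤ I₀) ⟨⊤, isAffineOpen_top X⟩

theorem Ideal.map_eq_of_comap_bijective {R S : Type*} [CommRing R] [CommRing S] (e : R →+* S)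
    (he : Function.Bijective e) {I : Ideal S} {K : Ideal R} (h : I.comap e = K) : I = K.map e := by
  rw [← h, Ideal.map_comap_of_surjective e he.2]

/-- The ideal of an inverse image on an affine open mapping into an affine open. -/
theorem ideal_comap_eq_map (f : X ⟶ Y) (J : Y.IdealSheafData) (U : X.affineOpens)
    (V : Y.affineOpens) (e : U.1 ≤ f ⁻¹ᵁ V.1) :
    (J.comap f).ideal U = (J.ideal V).map (f.appLE V.1 U.1 e).hom := by
  have : IsAffine U.1.toScheme := U.2
  have : IsAffine V.1.toScheme := V.2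
  have h1 : ((J.comap f).comap U.1.ι) = (J.comap V.1.ι).comap (f.resLE V.1 U.1 e) := by
    rw [← Scheme.IdealSheafData.comap_comp, ← Scheme.IdealSheafData.comap_comp,
      Scheme.Hom.resLE_comp_ι]
  have h2 := ideal_comap_top_of_isAffine (f.resLE V.1 U.1 e) (J.comap V.1.ι)
  rw [← h1] at h2
  have res : ∀ {Z : Scheme.{u}} (K : Z.IdealSheafData) (W : Z.affineOpens) [IsAffine W.1.toScheme],
      (K.comap W.1.ι).ideal ⟨⊤, isAffineOpen_top _⟩ = (K.ideal W).map W.1.topIso.inv.hom := by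
    intro Z K W _
    rw [Scheme.IdealSheafData.ideal_comap_of_isOpenImmersion, Scheme.Opens.ι_appIso]
    refine (Ideal.comap_id _).trans ?_
    exact (Scheme.IdealSheafData.map_ideal' K
      (U := ⟨W.1.ι ''ᵁ (⊤ : W.1.toScheme.Opens),
        (isAffineOpen_top W.1.toScheme).image_of_isOpenImmersion W.1.ι⟩) (V := W) _).symm
  rw [res (J.comap f) U, res J V] at h2
  have h3 : (f.resLE V.1 U.1 e).appTop =
      V.1.topIso.hom ≫ f.appLE V.1 U.1 e ≫ U.1.topIso.inv := Scheme.Hom.resLE_app_top ..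
  rw [h3, Ideal.map_map, ← CommRingCat.hom_comp, Iso.inv_hom_id_assoc, CommRingCat.hom_comp,
    ← Ideal.map_map] at h2
  have h4 := congrArg (Ideal.map U.1.topIso.hom.hom) h2
  simp only [Ideal.map_map, ← CommRingCat.hom_comp, Category.assoc, Iso.inv_hom_id,
    Category.comp_id] at h4
  simpa using h4

/-- Around every point there is an affine open mapping into an affine open. -/
theorem exists_affineOpens_le (f : X ⟶ Y) (x : X) : ∃ (U : X.affineOpens) (V : Y.affineOpens),
    x ∈ U.1 ∧ U.1 ≤ f ⁻¹ᵁ V.1 := by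
  obtain ⟨V, hV, hxV, -⟩ := exists_isAffineOpen_mem_and_subset (X := Y) (x := f x) (U := ⊤)
    (Set.mem_univ _)
  obtain ⟨U, hU, hxU, hUV⟩ := exists_isAffineOpen_mem_and_subset (x := x) (U := f ⁻¹ᵁ V) hxV
  exact ⟨⟨U, hU⟩, ⟨V, hV⟩, hxU, hUV⟩

/-- Inverse image commutes with products of ideal sheaves. -/
theorem comap_mul (f : X ⟶ Y) (I J : Y.IdealSheafData) :
    (I * J).comap f = I.comap f * J.comap f := by
  choose U V hx hle using exists_affineOpens_le f
  refine Scheme.IdealSheafData.ext_of_iSup_eq_top U (top_le_iff.1 fun x _ => ?_) fun x => ?_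
  · exact TopologicalSpace.Opens.mem_iSup.2 ⟨x, hx x⟩
  · rw [Scheme.IdealSheafData.ideal_mul, Pi.mul_apply, ideal_comap_eq_map f _ _ _ (hle x),
      ideal_comap_eq_map f _ _ _ (hle x), ideal_comap_eq_map f _ _ _ (hle x),
      Scheme.IdealSheafData.ideal_mul, Pi.mul_apply, Ideal.map_mul]

end Groth.Agent.FSchLib
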