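import Groth.Agent.FSchLib.IdealSheaf
import Mathlib.AlgebraicGeometry.ZariskisMainTheorem
import Mathlib.AlgebraicGeometry.Morphisms.Proper
import Mathlib.AlgebraicGeometry.Noetherian
import Mathlib.RingTheory.Noetherian.Nilpotent

/-!
# Morphisms detected on a thickening with nilpotent ideal
-/

universe u

namespace Groth.Agent.FSchLib

open CategoryTheory CategoryTheory.Limits AlgebraicGeometry

theorem eq_top_of_nilpotent_smul {R M : Type*} [CommRing R] [AddCommGroup M] [Module R M]
    {I : Ideal R} (hI : IsNilpotent I) {N : Submodule R M}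
    (h : (⊤ : Submodule R M) ≤ N ⊔ I • ⊤) : N = ⊤ := by
  obtain ⟨m, hm⟩ := hI
  have key : ∀ k, (⊤ : Submodule R M) ≤ N ⊔ I ^ k • ⊤ := by
    intro k
    induction k with
    | zero => simp
    | succ k ih =>
      refine ih.trans (sup_le le_sup_left ((Submodule.smul_mono le_rfl h).trans ?_))
      rw [Submodule.smul_sup, ← Submodule.mul_smul, ← pow_succ]
      exact sup_le_sup_right Submodule.smul_le_right _
  exact top_le_iff.1 ((key m).trans (by simp [hm]))

theorem finiteType_of_nilpotent {A B C : Type*} [CommRing A] [CommRing B] [CommRing C]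
    (φ : A →+* B) (q : B →+* C) (hq : Function.Surjective q) {I : Ideal A} (hI : IsNilpotent I)
    (hker : RingHom.ker q ≤ I.map φ) (h : (q.comp φ).FiniteType) : φ.FiniteType := by
  classical
  algebraize [φ, q.comp φ]
  obtain ⟨t, ht⟩ := Algebra.FiniteType.out (R := A) (A := C)
  choose g hg using hq
  let qA : B →ₐ[A] C := { q with commutes' := fun _ => rfl }
  refine ⟨⟨t.image g, ?_⟩⟩
  have hmap : (Algebra.adjoin A (↑(t.image g) : Set B)).map qA = ⊤ := by
    rw [AlgHom.map_adjoin, Finset.coe_image, ← Set.image_comp]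
    simpa [Function.comp_def, qA, hg] using ht
  refine Algebra.toSubmodule_eq_top.1 (eq_top_of_nilpotent_smul hI fun b _ => ?_)
  obtain ⟨s, hs, hsb⟩ : qA b ∈ (Algebra.adjoin A (↑(t.image g) : Set B)).map qA :=
    hmap ▸ Algebra.mem_top
  refine Submodule.mem_sup.2 ⟨s, hs, b - s, ?_, add_sub_cancel _ _⟩
  rw [Ideal.smul_top_eq_map]
  exact hker (by
    rw [RingHom.mem_ker, map_sub, sub_eq_zero]
    exact hsb.symm)

theorem surjective_of_nilpotent {A B C : Type*} [CommRing A] [CommRing B] [CommRing C]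
    (φ : A →+* B) (q : B →+* C) {I : Ideal A} (hI : IsNilpotent I)
    (hker : RingHom.ker q ≤ I.map φ) (h : Function.Surjective (q.comp φ)) :
    Function.Surjective φ := by
  algebraize [φ]
  rw [← RingHom.algebraMap_toAlgebra φ]
  refine LinearMap.range_eq_top.1
    (eq_top_of_nilpotent_smul hI (N := LinearMap.range (Algebra.linearMap A B)) fun b _ => ?_)
  obtain ⟨a, ha⟩ := h (q b)
  refine Submodule.mem_sup.2 ⟨φ a, ⟨a, rfl⟩, b - φ a, ?_, add_sub_cancel _ _⟩
  rw [Ideal.smul_top_eq_map]
  exact hker (by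
    rw [RingHom.mem_ker, map_sub, sub_eq_zero]
    exact ha.symm)

variable {X Y X₀ Y₀ : Scheme.{u}}

theorem isNilpotent_ker_of_surjective [IsLocallyNoetherian Y] (i : Y₀ ⟶ Y) [QuasiCompact i]
    [Surjective i] (U : Y.affineOpens) : IsNilpotent (i.ker.ideal U) := by
  have hU : IsAffineOpen U.1 := U.2
  have := IsLocallyNoetherian.component_noetherian U
  rw [Ideal.FG.isNilpotent_iff_le_nilradical (IsNoetherian.noetherian (i.ker.ideal U))]
  have hsupp : (i.ker.support : Set Y) = Set.univ := by
    rw [Scheme.Hom.support_ker, (i.surjective).range_eq, closure_univ]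
  have h2 : Y.zeroLocus (U := U.1) (i.ker.ideal U : Set Γ(Y, U.1)) ∩ U.1 = U.1 := by
    rw [← Scheme.IdealSheafData.coe_support_inter, hsupp, Set.univ_inter]
  rw [← hU.fromSpec_image_zeroLocus, ← hU.range_fromSpec, ← Set.image_univ] at h2
  exact (PrimeSpectrum.zeroLocus_eq_univ_iff _).1
    (Set.image_injective.2 hU.fromSpec.isOpenEmbedding.injective h2)

/-- Local finite type can be detected on a thickening, over a locally Noetherian base. -/
theorem locallyOfFiniteType_of_thickening [IsLocallyNoetherian Y] {f : X ⟶ Y} {i : Y₀ ⟶ Y}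
    {iX : X₀ ⟶ X} {f₀ : X₀ ⟶ Y₀} [IsClosedImmersion i] [Surjective i] [IsClosedImmersion iX]
    (hker : iX.ker = i.ker.comap f) (w : iX ≫ f = f₀ ≫ i) [LocallyOfFiniteType f₀] :
    LocallyOfFiniteType f := by
  rw [HasRingHomProperty.iff_exists_appLE (P := @LocallyOfFiniteType)
    (RingHom.finiteType_stableUnderComposition.stableUnderCompositionWithLocalizationAway
      RingHom.finiteType_holdsForLocalizationAway).left]
  · intro x
    obtain ⟨U, hU, hxU, -⟩ := exists_isAffineOpen_mem_and_subset (x := f x) (U := ⊤) (Set.mem_univ _)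
    obtain ⟨V, hV, hxV, hVU'⟩ := exists_isAffineOpen_mem_and_subset (x := x) (U := f ⁻¹ᵁ U) hxU
    have hVU : V ≤ f ⁻¹ᵁ U := hVU'
    refine ⟨⟨U, hU⟩, ⟨V, hV⟩, hxV, hVU, finiteType_of_nilpotent _ (iX.app V).hom
      (iX.app_surjective V hV) (isNilpotent_ker_of_surjective i ⟨U, hU⟩) ?_ ?_⟩
    · rw [← ideal_comap_eq_map f _ ⟨V, hV⟩ ⟨U, hU⟩ hVU, ← hker, Scheme.Hom.ker_apply]
    · show (f.appLE U V hVU ≫ iX.app V).hom.FiniteType
      rw [Scheme.Hom.app_eq_appLE, Scheme.Hom.appLE_comp_appLE]
      have : LocallyOfFiniteType (iX ≫ f) := w ▸ inferInstance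
      exact (iX ≫ f).finiteType_appLE hU (hV.preimage iX) _

/-- Separatedness is detected on a thickening of the source. -/
theorem isSeparated_iff_of_thickening {f : X ⟶ Y} {f₀ : X₀ ⟶ Y₀} {iX : X₀ ⟶ X} {iY : Y₀ ⟶ Y}
    [IsClosedImmersion iX] [Surjective iX] [IsClosedImmersion iY] (h : f₀ ≫ iY = iX ≫ f) :
    IsSeparated f ↔ IsSeparated f₀ := by
  constructor <;> intro hs
  · have : IsSeparated (f₀ ≫ iY) := h ▸ inferInstance
    exact IsSeparated.of_comp f₀ iY
  · have : IsSeparated (iX ≫ f) := h ▸ inferInstance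
    let g : pullback (iX ≫ f) (iX ≫ f) ⟶ pullback f f :=
      pullback.map _ _ _ _ iX iX (𝟙 _) (Category.comp_id _) (Category.comp_id _)
    have hg : UniversallyClosed g :=
      MorphismProperty.pullbackMap (P := @UniversallyClosed) (f := iX ≫ f) (g := iX ≫ f)
        (f' := f) (g' := f) (i₁ := iX) (i₂ := iX) inferInstance inferInstance rfl rfl
    have hcomp : iX ≫ pullback.diagonal f = pullback.diagonal (iX ≫ f) ≫ g := by
      apply pullback.hom_ext
      · rw [Category.assoc, Category.assoc, pullback.diagonal_fst, Category.comp_id,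
          show g ≫ pullback.fst f f = pullback.fst _ _ ≫ iX from pullback.lift_fst _ _ _,
          pullback.diagonal_fst_assoc]
      · rw [Category.assoc, Category.assoc, pullback.diagonal_snd, Category.comp_id,
          show g ≫ pullback.snd f f = pullback.snd _ _ ≫ iX from pullback.lift_snd _ _ _,
          pullback.diagonal_snd_assoc]
    have : UniversallyClosed (iX ≫ pullback.diagonal f) := hcomp ▸ inferInstance
    have := UniversallyClosed.of_comp_surjective iX (pullback.diagonal f)
    exact ⟨IsClosedImmersion.of_isPreimmersion _ (pullback.diagonal f).isClosedMap.isClosed_range⟩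

variable [IsLocallyNoetherian Y] {f : X ⟶ Y} {i : Y₀ ⟶ Y} {iX : X₀ ⟶ X} {f₀ : X₀ ⟶ Y₀}
  [IsClosedImmersion i] [Surjective i] [IsClosedImmersion iX] [Surjective iX]
  (hker : iX.ker = i.ker.comap f) (w : iX ≫ f = f₀ ≫ i)

include hker w

theorem isProper_of_thickening [IsProper f₀] : IsProper f := by
  have := locallyOfFiniteType_of_thickening hker w
  have := (isSeparated_iff_of_thickening w.symm).2 inferInstance
  have : UniversallyClosed (iX ≫ f) := w ▸ inferInstance
  have := UniversallyClosed.of_comp_surjective iX f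
  constructor

theorem isFinite_of_thickening [IsFinite f₀] : IsFinite f := by
  have := isProper_of_thickening hker w
  have : LocallyQuasiFinite f := by
    refine LocallyQuasiFinite.of_finite_preimage_singleton f fun y => ?_
    obtain ⟨y₀, rfl⟩ := i.surjective y
    refine ((f₀.finite_preimage_singleton y₀).image iX).subset fun x hx => ?_
    obtain ⟨x₀, rfl⟩ := iX.surjective x
    refine ⟨x₀, i.isClosedEmbedding.injective ?_, rfl⟩
    change (f₀ ≫ i) x₀ = _
    rw [← w]
    exact hx
  exact IsFinite.of_isProper_of_locallyQuasiFinite f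

theorem isClosedImmersion_of_thickening [IsClosedImmersion f₀] : IsClosedImmersion f := by
  have := isFinite_of_thickening hker w
  refine isClosedImmersion_iff_isAffineHom.2 ⟨inferInstance, fun U hU => ?_⟩
  refine surjective_of_nilpotent _ (iX.app (f ⁻¹ᵁ U)).hom
    (isNilpotent_ker_of_surjective i ⟨U, hU⟩) ?_ ?_
  · refine le_of_eq ?_
    have := ideal_comap_eq_map f i.ker ⟨_, hU.preimage f⟩ ⟨U, hU⟩ le_rfl
    rw [← hker, Scheme.Hom.ker_apply, Scheme.Hom.appLE_eq_app] at this
    exact this
  · rw [← CommRingCat.hom_comp, ← Scheme.Hom.comp_app]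
    have : IsClosedImmersion (iX ≫ f) := w ▸ inferInstance
    exact (iX ≫ f).app_surjective U hU

end Groth.Agent.FSchLib
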