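import Groth.Agent.FSchLib.Levels
import Groth.Prelude.Def_FSch5

/-!
# Systems induced on open subsets
-/

universe u

namespace Groth.Agent.FSchLib

open CategoryTheory CategoryTheory.Limits AlgebraicGeometry

theorem isPullback_resLE_of_eq {X Y : Scheme.{u}} (f : X ⟶ Y) {U : Y.Opens} {V : X.Opens}
    (hV : f ⁻¹ᵁ U = V) (e : V ≤ f ⁻¹ᵁ U) : IsPullback V.ι (f.resLE U V e) f U.ι := by
  subst hV
  rw [Scheme.Hom.resLE_eq_morphismRestrict]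
  exact (isPullback_morphismRestrict f U).flip

variable {𝔛 𝔜 : FSch.Sys.{u}}

theorem isAdicHom_restrictOpenι (h : 𝔛.IsFormal) (U : (𝔛.X 0).Opens) :
    FSch.IsAdicHom (𝔛.restrictOpenι h U) :=
  fun n => (isPullback_resLE_of_eq (𝔛.ι n) (𝔛.lvU_succ h n U) _).flip

theorem isFormal_restrictOpen (h : 𝔛.IsFormal) (U : (𝔛.X 0).Opens) :
    (𝔛.restrictOpen h U).IsFormal := fun n => by
  have hsq := isAdicHom_restrictOpenι h U n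
  exact ⟨MorphismProperty.of_isPullback (P := @IsClosedImmersion) hsq.flip (h n).1,
    (MorphismProperty.of_isPullback (P := @AlgebraicGeometry.Surjective) hsq.flip
      ⟨(h n).2⟩).surj⟩

theorem isLocNoethFormal_restrictOpen (h : 𝔛.IsFormal) (hN : 𝔛.IsLocNoethFormal)
    (U : (𝔛.X 0).Opens) : (𝔛.restrictOpen h U).IsLocNoethFormal := by
  have := hN.2.2 0
  have : IsLocallyNoetherian ((𝔛.restrictOpen h U).X 0) :=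
    inferInstanceAs (IsLocallyNoetherian (𝔛.lvU h 0 U).toScheme)
  exact isLocNoethFormal_of_isAdicHom hN (isAdicHom_restrictOpenι h U)

theorem isAdicHom_restrictOpen {f : 𝔛 ⟶ 𝔜} (h𝔛 : 𝔛.IsFormal) (h𝔜 : 𝔜.IsFormal)
    (hf : FSch.IsAdicHom f) (U : (𝔜.X 0).Opens) :
    FSch.IsAdicHom (FSch.Hom.restrictOpen f h𝔛 h𝔜 U) := by
  intro n
  have hX := (isAdicHom_restrictOpenι h𝔛 ((f : FSch.Hom 𝔛 𝔜).app 0 ⁻¹ᵁ U) n).flip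
  have hY := fun m => isPullback_resLE_of_eq ((f : FSch.Hom 𝔛 𝔜).app m)
    (U := 𝔜.lvU h𝔜 m U) (FSch.Hom.lvU_preimage f h𝔛 h𝔜 m U) (FSch.Hom.lvU_preimage f h𝔛 h𝔜 m U).ge
  have h1 := (hY n).paste_horiz (hf n)
  have e1 : (𝔛.restrictOpen h𝔛 ((f : FSch.Hom 𝔛 𝔜).app 0 ⁻¹ᵁ U)).ι n ≫
      (𝔛.lvU h𝔛 (n + 1) ((f : FSch.Hom 𝔛 𝔜).app 0 ⁻¹ᵁ U)).ι =
      (𝔛.lvU h𝔛 n ((f : FSch.Hom 𝔛 𝔜).app 0 ⁻¹ᵁ U)).ι ≫ 𝔛.ι n := Scheme.Hom.resLE_comp_ι _ _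
  have e2 : (𝔜.restrictOpen h𝔜 U).ι n ≫ (𝔜.lvU h𝔜 (n + 1) U).ι =
      (𝔜.lvU h𝔜 n U).ι ≫ 𝔜.ι n := Scheme.Hom.resLE_comp_ι _ _
  rw [← e1, ← e2] at h1
  exact IsPullback.of_right h1 ((FSch.Hom.restrictOpen f h𝔛 h𝔜 U : FSch.Hom _ _).comm n).symm
    (hY (n + 1))

theorem isFiniteHom_restrictOpen {f : 𝔛 ⟶ 𝔜} (h𝔛 : 𝔛.IsFormal) (h𝔜 : 𝔜.IsFormal)
    (hf : FSch.IsFiniteHom f) (U : (𝔜.X 0).Opens) :
    FSch.IsFiniteHom (FSch.Hom.restrictOpen f h𝔛 h𝔜 U) :=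
  ⟨isAdicHom_restrictOpen h𝔛 h𝔜 hf.1 U,
    MorphismProperty.of_isPullback (P := @IsFinite)
      (isPullback_resLE_of_eq ((f : FSch.Hom 𝔛 𝔜).app 0) (U := 𝔜.lvU h𝔜 0 U)
        (FSch.Hom.lvU_preimage f h𝔛 h𝔜 0 U) (FSch.Hom.lvU_preimage f h𝔛 h𝔜 0 U).ge) hf.2⟩

end Groth.Agent.FSchLib
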