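import Groth.Agent.FSchLib.Systems
import Groth.Agent.FSchLib.Thickening

/-!
# Levelwise properties of adic morphisms of systems
-/

universe u

namespace Groth.Agent.FSchLib

open CategoryTheory CategoryTheory.Limits AlgebraicGeometry

variable {𝔛 𝔜 : FSch.Sys.{u}}

theorem surjective_toX (h : 𝔛.IsFormal) : ∀ n, Surjective (𝔛.toX n)
  | 0 => inferInstanceAs (Surjective (𝟙 _))
  | n + 1 => by
    have := surjective_toX h n
    have : Surjective (𝔛.ι n) := ⟨(h n).2⟩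
    exact inferInstanceAs (Surjective (𝔛.toX n ≫ 𝔛.ι n))

variable {f : 𝔛 ⟶ 𝔜} (h𝔜 : 𝔜.IsLocNoethFormal) (hf : FSch.IsAdicHom f) (n : ℕ)

include h𝔜 hf

theorem thickening_data :
    IsClosedImmersion (𝔜.toX n) ∧ Surjective (𝔜.toX n) ∧ IsClosedImmersion (𝔛.toX n) ∧
      Surjective (𝔛.toX n) ∧
      (𝔛.toX n).ker = (𝔜.toX n).ker.comap ((f : FSch.Hom 𝔛 𝔜).app n) ∧
      𝔛.toX n ≫ (f : FSch.Hom 𝔛 𝔜).app n = (f : FSch.Hom 𝔛 𝔜).app 0 ≫ 𝔜.toX n := by
  have h1 := isClosedImmersion_toX h𝔜.1 n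
  have h2 := surjective_toX h𝔜.1 n
  have sq := isPullback_toX hf n
  exact ⟨h1, h2, MorphismProperty.of_isPullback (P := @IsClosedImmersion) sq.flip h1,
    MorphismProperty.of_isPullback (P := @Surjective) sq.flip h2, ker_of_isPullback sq, sq.w⟩

theorem isFinite_app [IsFinite ((f : FSch.Hom 𝔛 𝔜).app 0)] :
    IsFinite ((f : FSch.Hom 𝔛 𝔜).app n) := by
  obtain ⟨h1, h2, h3, h4, hk, w⟩ := thickening_data h𝔜 hf n
  have := h𝔜.2.2 n
  exact isFinite_of_thickening hk w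

theorem isClosedImmersion_app [IsClosedImmersion ((f : FSch.Hom 𝔛 𝔜).app 0)] :
    IsClosedImmersion ((f : FSch.Hom 𝔛 𝔜).app n) := by
  obtain ⟨h1, h2, h3, h4, hk, w⟩ := thickening_data h𝔜 hf n
  have := h𝔜.2.2 n
  exact isClosedImmersion_of_thickening hk w

theorem isProper_app [IsProper ((f : FSch.Hom 𝔛 𝔜).app 0)] :
    IsProper ((f : FSch.Hom 𝔛 𝔜).app n) := by
  obtain ⟨h1, h2, h3, h4, hk, w⟩ := thickening_data h𝔜 hf n
  have := h𝔜.2.2 n
  exact isProper_of_thickening hk w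

end Groth.Agent.FSchLib
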