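/- Etale covers of an adic system and of its smallest level -/
import Groth.Agent.Et18.Thickening
import Groth.Agent.Et18.TopInvHom
import Groth.Agent.FSchLib.Thickening
import Groth.Agent.FSchLib.Levels
import Groth.Prelude.Def_FSch4

universe u

open CategoryTheory Limits AlgebraicGeometry

set_option backward.isDefEq.respectTransparency false
set_option backward.isDefEq.respectTransparency.types false

namespace Groth.Agent.FSchLib.EtCovLevel

variable {S₀ S : Scheme.{u}}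

/-- Morphisms of etale schemes lift uniquely along a surjective closed immersion of bases. -/
theorem existsUnique_hom {A₀ A B₀ B : Scheme.{u}} {i : S₀ ⟶ S} [IsClosedImmersion i] [Surjective i]
    {iA : A₀ ⟶ A} {a₀ : A₀ ⟶ S₀} {a : A ⟶ S} (sA : IsPullback iA a₀ a i)
    {iB : B₀ ⟶ B} {b₀ : B₀ ⟶ S₀} {b : B ⟶ S} (sB : IsPullback iB b₀ b i) [Etale b]
    (φ₀ : A₀ ⟶ B₀) (hφ₀ : φ₀ ≫ b₀ = a₀) :
    ∃! φ : A ⟶ B, φ ≫ b = a ∧ iA ≫ φ = φ₀ ≫ iB := by
  have : Etale (Over.mk b).hom := ‹Etale b›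
  have hb := Groth.Agent.Et18.pullback_hom_bijective i (Over.mk b) (Over.mk a)
  let eA : A₀ ≅ pullback a i := sA.isoPullback
  let eB : B₀ ≅ pullback b i := sB.isoPullback
  have key : ∀ φ : Over.mk a ⟶ Over.mk b,
      ((Over.pullback i).map φ).left ≫ pullback.fst b i = pullback.fst a i ≫ φ.left := fun φ =>
    pullback.lift_fst _ _ _
  have key2 : ∀ φ : Over.mk a ⟶ Over.mk b,
      ((Over.pullback i).map φ).left ≫ pullback.snd b i = pullback.snd a i := fun φ =>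
    pullback.lift_snd _ _ _
  let χ : (Over.pullback i).obj (Over.mk a) ⟶ (Over.pullback i).obj (Over.mk b) :=
    Over.homMk (eA.inv ≫ φ₀ ≫ eB.hom) (show (eA.inv ≫ φ₀ ≫ eB.hom) ≫ pullback.snd b i = pullback.snd a i by
      simp only [Category.assoc, eB, eA, IsPullback.isoPullback_hom_snd, hφ₀, IsPullback.isoPullback_inv_snd])
  obtain ⟨φ, hφ⟩ := hb.2 χ
  have hl : ((Over.pullback i).map φ).left = eA.inv ≫ φ₀ ≫ eB.hom := congrArg (fun k => k.left) hφ
  refine ⟨φ.left, ⟨Over.w φ, ?_⟩, fun ψ hψ => ?_⟩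
  · have h1 := key φ
    rw [hl] at h1
    simp only [Category.assoc, eB, IsPullback.isoPullback_hom_fst] at h1
    rw [← sA.isoPullback_hom_fst, Category.assoc]
    show eA.hom ≫ pullback.fst a i ≫ φ.left = φ₀ ≫ iB
    rw [← h1, Iso.hom_inv_id_assoc]
  · let ψ' : Over.mk a ⟶ Over.mk b := Over.homMk ψ hψ.1
    refine congrArg (fun k => k.left) (hb.1 (a₁ := ψ') (a₂ := φ) (Over.OverMorphism.ext ?_))
    rw [hl]
    apply pullback.hom_ext
    · refine (key ψ').trans ?_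
      show pullback.fst a i ≫ ψ = (eA.inv ≫ φ₀ ≫ eB.hom) ≫ pullback.fst b i
      simp only [Category.assoc, eB, IsPullback.isoPullback_hom_fst]
      rw [← hψ.2, ← Category.assoc]
      exact congrArg (· ≫ ψ) sA.isoPullback_inv_fst.symm
    · refine (key2 ψ').trans ?_
      show pullback.snd a i = (eA.inv ≫ φ₀ ≫ eB.hom) ≫ pullback.snd b i
      simp only [Category.assoc, eB, eA, IsPullback.isoPullback_hom_snd, hφ₀, IsPullback.isoPullback_inv_snd]

/-- A finite etale cover of a closed subscheme with the same points extends. -/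
theorem exists_lift {W : Scheme.{u}} (i : S₀ ⟶ S) [IsClosedImmersion i] [Surjective i] [IsLocallyNoetherian S]
    (q : W ⟶ S₀) [IsFinite q] [Etale q] :
    ∃ (V : Scheme.{u}) (p : V ⟶ S) (l : W ⟶ V), IsFinite p ∧ Etale p ∧ IsPullback l q p i := by
  have := Groth.Agent.Et18.bc_isEquivalence_of_thickening i
  let Wo : S₀.Etale := Scheme.Etale.mk q
  let V := (EtCoh.bc i).objPreimage Wo
  let e := (EtCoh.bc i).objObjPreimageIso Wo
  have hp : Etale V.hom := V.prop
  have sq : IsPullback (e.inv.left ≫ pullback.fst V.hom i) q V.hom i := by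
    let e' : W ≅ pullback V.hom i :=
      { hom := e.inv.left
        inv := e.hom.left
        hom_inv_id := congrArg (fun k => k.left) e.inv_hom_id
        inv_hom_id := congrArg (fun k => k.left) e.hom_inv_id }
    exact (IsPullback.of_hasPullback V.hom i).of_iso e'.symm (Iso.refl _) (Iso.refl _) (Iso.refl _)
      (by
        simp only [Iso.refl_hom, Category.comp_id, Iso.symm_hom]
        show pullback.fst V.hom i = e.hom.left ≫ e.inv.left ≫ pullback.fst V.hom i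
        rw [← Category.assoc]
        exact ((congrArg (· ≫ pullback.fst V.hom i) (congrArg (fun k => k.left) e.hom_inv_id)).trans (Category.id_comp _)).symm) (by
        simp only [Iso.refl_hom, Category.comp_id, Iso.symm_hom]
        exact (Over.w e.hom.hom).symm) (by simp) (by simp)
  have : IsClosedImmersion (e.inv.left ≫ pullback.fst V.hom i) :=
    MorphismProperty.of_isPullback (P := @IsClosedImmersion) sq.flip inferInstance
  have : Surjective (e.inv.left ≫ pullback.fst V.hom i) :=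
    MorphismProperty.of_isPullback (P := @Surjective) sq.flip inferInstance
  exact ⟨V.left, V.hom, _, isFinite_of_thickening (ker_of_isPullback sq) sq.w, hp, sq⟩

variable (𝔛 : FSch.Sys.{u})

/-- the tower of lifts of a finite etale cover of the smallest level -/
noncomputable def tower (h𝔛 : 𝔛.IsLocNoethFormal) (W : Scheme.{u}) (q : W ⟶ 𝔛.X 0) (hq : IsFinite q ∧ Etale q) :
    ∀ n, Σ' (V : Scheme.{u}) (p : V ⟶ 𝔛.X n), IsFinite p ∧ Etale p
  | 0 => ⟨W, q, hq⟩
  | n + 1 =>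
    have := (h𝔛.1 n).1
    have : Surjective (𝔛.ι n) := ⟨(h𝔛.1 n).2⟩
    have := h𝔛.2.2 (n + 1)
    let t := tower h𝔛 W q hq n
    have := t.2.2.1
    have := t.2.2.2
    ⟨(exists_lift (𝔛.ι n) t.2.1).choose, (exists_lift (𝔛.ι n) t.2.1).choose_spec.choose,
      (exists_lift (𝔛.ι n) t.2.1).choose_spec.choose_spec.choose_spec.1,
      (exists_lift (𝔛.ι n) t.2.1).choose_spec.choose_spec.choose_spec.2.1⟩

theorem tower_step (h𝔛 : 𝔛.IsLocNoethFormal) (W : Scheme.{u}) (q : W ⟶ 𝔛.X 0) (hq : IsFinite q ∧ Etale q) (n : ℕ) :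
    ∃ l : (tower 𝔛 h𝔛 W q hq n).1 ⟶ (tower 𝔛 h𝔛 W q hq (n + 1)).1,
      IsPullback l (tower 𝔛 h𝔛 W q hq n).2.1 (tower 𝔛 h𝔛 W q hq (n + 1)).2.1 (𝔛.ι n) := by
  have := (h𝔛.1 n).1
  have : Surjective (𝔛.ι n) := ⟨(h𝔛.1 n).2⟩
  have := h𝔛.2.2 (n + 1)
  have := (tower 𝔛 h𝔛 W q hq n).2.2.1
  have := (tower 𝔛 h𝔛 W q hq n).2.2.2
  exact ⟨_, (exists_lift (𝔛.ι n) (tower 𝔛 h𝔛 W q hq n).2.1).choose_spec.choose_spec.choose_spec.2.2⟩

theorem essSurj (h𝔛 : 𝔛.IsLocNoethFormal) : (FSch.EtCov.level 𝔛 0).EssSurj := by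
  refine ⟨fun Wo => ?_⟩
  let t := tower 𝔛 h𝔛 Wo.left Wo.hom Wo.prop
  choose l hl using tower_step 𝔛 h𝔛 Wo.left Wo.hom Wo.prop
  let R : FSch.Sys.{u} := ⟨fun n => (t n).1, l⟩
  let f : R ⟶ 𝔛 := ⟨fun n => (t n).2.1, fun n => (hl n).w.symm⟩
  exact ⟨⟨Over.mk f, fun n => hl n, fun n => (t n).2.2⟩, ⟨Iso.refl _⟩⟩

section Hom

variable {𝔛} (h𝔛 : 𝔛.IsLocNoethFormal) (R R' : FSch.EtCov 𝔛)

include h𝔛

theorem unique_step (n : ℕ) (φ₀ : (R.obj.left).X n ⟶ (R'.obj.left).X n)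
    (hφ₀ : φ₀ ≫ (R'.obj.hom : FSch.Hom _ _).app n = (R.obj.hom : FSch.Hom _ _).app n) :
    ∃! φ : (R.obj.left).X (n + 1) ⟶ (R'.obj.left).X (n + 1),
      φ ≫ (R'.obj.hom : FSch.Hom _ _).app (n + 1) = (R.obj.hom : FSch.Hom _ _).app (n + 1) ∧
      (R.obj.left).ι n ≫ φ = φ₀ ≫ (R'.obj.left).ι n := by
  have := (h𝔛.1 n).1
  have : Surjective (𝔛.ι n) := ⟨(h𝔛.1 n).2⟩
  have := (R'.property.2 (n + 1)).2
  exact existsUnique_hom (R.property.1 n) (R'.property.1 n) φ₀ hφ₀

/-- the tower of lifts of a morphism on the smallest level -/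
noncomputable def homTower (φ₀ : (R.obj.left).X 0 ⟶ (R'.obj.left).X 0)
    (hφ₀ : φ₀ ≫ (R'.obj.hom : FSch.Hom _ _).app 0 = (R.obj.hom : FSch.Hom _ _).app 0) :
    ∀ n, {φ : (R.obj.left).X n ⟶ (R'.obj.left).X n //
      φ ≫ (R'.obj.hom : FSch.Hom _ _).app n = (R.obj.hom : FSch.Hom _ _).app n}
  | 0 => ⟨φ₀, hφ₀⟩
  | n + 1 => ⟨(unique_step h𝔛 R R' n (homTower φ₀ hφ₀ n).1 (homTower φ₀ hφ₀ n).2).choose,
      (unique_step h𝔛 R R' n (homTower φ₀ hφ₀ n).1 (homTower φ₀ hφ₀ n).2).choose_spec.1.1⟩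

theorem level_map_bijective :
    Function.Bijective fun φ : R ⟶ R' => (FSch.EtCov.level 𝔛 0).map φ := by
  constructor
  · intro φ ψ h
    have h0 : (φ.hom.left : FSch.Hom _ _).app 0 = (ψ.hom.left : FSch.Hom _ _).app 0 :=
      congrArg (fun k => k.left) h
    have w : ∀ (χ : R ⟶ R') (n : ℕ), (χ.hom.left : FSch.Hom _ _).app n ≫ (R'.obj.hom : FSch.Hom _ _).app n =
        (R.obj.hom : FSch.Hom _ _).app n := fun χ n => by rw [← FSch.comp_app, Over.w χ.hom]
    refine InducedCategory.hom_ext (Over.OverMorphism.ext (FSch.Hom.ext (funext fun n => ?_)))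
    induction n with
    | zero => exact h0
    | succ n ih =>
      exact (unique_step h𝔛 R R' n _ (w φ n)).unique ⟨w φ (n + 1), ((φ.hom.left : FSch.Hom _ _).comm n).symm⟩
        ⟨w ψ (n + 1), by rw [ih]; exact ((ψ.hom.left : FSch.Hom _ _).comm n).symm⟩
  · intro χ
    let T := homTower h𝔛 R R' χ.left (Over.w χ.hom)
    let g : R.obj.left ⟶ R'.obj.left := ⟨fun n => (T n).1, fun n =>
      ((unique_step h𝔛 R R' n (T n).1 (T n).2).choose_spec.1.2).symm⟩
    refine ⟨InducedCategory.homMk (Over.homMk g (FSch.Hom.ext (funext fun n => ?_))), ?_⟩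
    · exact (T n).2
    · apply MorphismProperty.Over.Hom.ext
      rfl

end Hom

end Groth.Agent.FSchLib.EtCovLevel
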