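/- Properties of a completed morphism at all levels versus properties near the closed subset -/
import Groth.Agent.S3862
import Groth.Agent.SchMor12.ClosedImmersionNhd
import Groth.Prelude.Def_FSch3

universe u

set_option backward.isDefEq.respectTransparency false

open CategoryTheory Limits AlgebraicGeometry

namespace Groth.Agent.FSchLib.Near

variable {X Y Z W P : Scheme.{u}}

/-- A base change along a morphism landing in `V` only depends on `f ∣_ V`. -/
theorem of_isPullback_of_range_subset {Q : MorphismProperty Scheme.{u}} [Q.IsStableUnderBaseChange]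
    {f : X ⟶ Y} {i : W ⟶ Y} {p : P ⟶ X} {q : P ⟶ W} (big : IsPullback p q f i)
    {V : Y.Opens} (hV : Set.range i ⊆ V) (hf : Q (f ∣_ V)) : Q q := by
  have hsub : Set.range i ⊆ Set.range V.ι := by rwa [Scheme.Opens.range_ι]
  let l := IsOpenImmersion.lift V.ι i hsub
  have hl : l ≫ V.ι = i := IsOpenImmersion.lift_fac _ _ _
  have sq := (isPullback_morphismRestrict f V).flip
  have w : p ≫ f = (q ≫ l) ≫ V.ι := by rw [Category.assoc, hl]; exact big.w
  have : IsPullback (sq.lift p (q ≫ l) w) q (f ∣_ V) l := by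
    refine IsPullback.of_right ?_ (sq.lift_snd _ _ _) sq
    rw [sq.lift_fst, hl]; exact big
  exact MorphismProperty.of_isPullback (P := Q) this hf

theorem of_le {Q : MorphismProperty Scheme.{u}} [IsZariskiLocalAtTarget Q] {f : X ⟶ Y}
    {U V : Y.Opens} (hUV : V ≤ U) (h : Q (f ∣_ U)) : Q (f ∣_ V) := by
  have h1 : Q ((f ∣_ U) ∣_ (U.ι ⁻¹ᵁ V)) := IsZariskiLocalAtTarget.restrict h _
  have h2 := (MorphismProperty.arrow_mk_iso_iff Q (morphismRestrictRestrict f U (U.ι ⁻¹ᵁ V))).1 h1
  rwa [Scheme.Hom.image_preimage_eq_opensRange_inf, Scheme.Opens.opensRange_ι,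
    inf_eq_right.2 hUV] at h2

theorem restrict_iSup {Q : MorphismProperty Scheme.{u}} [IsZariskiLocalAtTarget Q] {f : X ⟶ Y}
    {ι : Type u} (U : ι → Y.Opens) (h : ∀ i, Q (f ∣_ U i)) : Q (f ∣_ (⨆ i, U i)) := by
  refine IsZariskiLocalAtTarget.of_iSup_eq_top (fun i => (⨆ i, U i).ι ⁻¹ᵁ U i) ?_ fun i => ?_
  · rw [← Scheme.Hom.preimage_iSup]
    exact Scheme.Opens.ι_preimage_self _
  · apply (MorphismProperty.arrow_mk_iso_iff Q (morphismRestrictRestrict f _ _)).2
    rw [Scheme.Hom.image_preimage_eq_opensRange_inf, Scheme.Opens.opensRange_ι,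
      inf_eq_right.2 (le_iSup U i)]
    exact h i

theorem exists_open_of_nhds {Q : MorphismProperty Scheme.{u}} [IsZariskiLocalAtTarget Q]
    (h : Y ⟶ Z) [IsProper h] {f : X ⟶ Y} (S : Set Z)
    (H : ∀ y : Y, h y ∈ S → ∃ V : Y.Opens, y ∈ V ∧ Q (f ∣_ V)) :
    ∃ U : Z.Opens, S ⊆ U ∧ Q (f ∣_ h ⁻¹ᵁ U) := by
  choose V hyV hV using H
  let W : Y.Opens := ⨆ y : {y : Y // h y ∈ S}, V y.1 y.2
  have hW : Q (f ∣_ W) := restrict_iSup _ fun y => hV y.1 y.2
  let U : Z.Opens := ⟨(h '' (W : Set Y)ᶜ)ᶜ, (h.isClosedMap _ W.2.isClosed_compl).isOpen_compl⟩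
  refine ⟨U, ?_, of_le ?_ hW⟩
  · rintro z hz ⟨y, hy, rfl⟩
    exact hy (TopologicalSpace.Opens.mem_iSup.2 ⟨⟨y, hz⟩, hyV y hz⟩)
  · exact fun y hy => by_contra fun hn => hy ⟨y, hn, rfl⟩

theorem fibre_of_isPullback {f : X ⟶ Y} {i : W ⟶ Y} [IsClosedImmersion i] {p : P ⟶ X} {q : P ⟶ W}
    (big : IsPullback p q f i) [IsClosedImmersion q] {y : Y} (hy : y ∈ Set.range i) :
    IsEmpty ↥(f.fiber y) ∨ IsIso (f.fiberToSpecResidueField y) := by
  obtain ⟨w, rfl⟩ := hy
  have hc : IsClosedImmersion (f.fiberToSpecResidueField (i w)) := by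
    have : IsIso (i.residueFieldMap w) := (ConcreteCategory.isIso_iff_bijective _).2
      ⟨RingHom.injective _, fun b => by
        obtain ⟨a, rfl⟩ := IsLocalRing.residue_surjective b
        obtain ⟨a', rfl⟩ := i.stalkMap_surjective w a
        exact ⟨IsLocalRing.residue _ a', rfl⟩⟩
    let l : Spec (Y.residueField (i w)) ⟶ W := inv (Spec.map (i.residueFieldMap w)) ≫ W.fromSpecResidueField w
    have hl : l ≫ i = Y.fromSpecResidueField (i w) := by
      rw [Category.assoc, IsIso.inv_comp_eq]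
      exact (i.SpecMap_residueFieldMap_fromSpecResidueField w).symm
    have F : IsPullback (f.fiberι (i w)) (f.fiberToSpecResidueField (i w)) f (Y.fromSpecResidueField (i w)) :=
      IsPullback.of_hasPullback _ _
    have w' : f.fiberι (i w) ≫ f = (f.fiberToSpecResidueField (i w) ≫ l) ≫ i := by
      rw [Category.assoc, hl]; exact F.w
    have : IsPullback (big.lift _ _ w') (f.fiberToSpecResidueField (i w)) q l := by
      refine IsPullback.of_right ?_ (big.lift_snd _ _ _) big
      rw [big.lift_fst, hl]; exact F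
    exact MorphismProperty.of_isPullback (P := @IsClosedImmersion) this inferInstance
  rcases isEmpty_or_nonempty ↥(f.fiber (i w)) with h | h
  · exact Or.inl h
  have : Nonempty (⊤ : (f.fiber (i w)).Opens) := ⟨⟨Classical.arbitrary _, trivial⟩⟩
  have : Nontrivial Γ(f.fiber (i w), ⊤) := (f.fiber (i w)).component_nontrivial ⊤
  exact Or.inr (IsClosedImmersion.isIso_of_injective_of_isAffine
    ((show Function.Injective ((f.fiberToSpecResidueField (i w)).appTop.hom ∘
        (Scheme.ΓSpecIso (Y.residueField (i w))).inv.hom) from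
      RingHom.injective ((f.fiberToSpecResidueField (i w)).appTop.hom.comp
        (Scheme.ΓSpecIso (Y.residueField (i w))).inv.hom)).of_comp_right
      (ConcreteCategory.bijective_of_isIso (Scheme.ΓSpecIso (Y.residueField (i w))).inv).2))

/-- A closed immersion which is an isomorphism on every infinitesimal neighbourhood of `V(K)` in a
locally Noetherian scheme is an isomorphism near `V(K)`. -/
theorem exists_isIso_nhd (f : X ⟶ Y) [IsLocallyNoetherian Y] (K : Y.IdealSheafData) (y : Y) (hy : y ∈ K.support)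
    {U : Y.Opens} (hyU : y ∈ U) (hU : IsClosedImmersion (f ∣_ U))
    (hlift : ∀ n : ℕ, ∃ t : (K ^ (n + 1)).subscheme ⟶ X, t ≫ f = (K ^ (n + 1)).subschemeι) :
    ∃ V : Y.Opens, y ∈ V ∧ IsIso (f ∣_ V) := by
  obtain ⟨W, hW, hyW, hWU⟩ := exists_isAffineOpen_mem_and_subset (x := y) (U := U) hyU
  let Wa : Y.affineOpens := ⟨W, hW⟩
  have : IsClosedImmersion (f ∣_ W) := of_le (Q := @IsClosedImmersion) hWU hU
  have : IsNoetherianRing Γ(Y, W) := IsLocallyNoetherian.component_noetherian Wa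
  let φ := (f.app W).hom
  let I : Ideal Γ(Y, W) := RingHom.ker φ
  have hIn : ∀ n : ℕ, I ≤ K.ideal Wa ^ (n + 1) := fun n a ha => by
    obtain ⟨t, ht⟩ := hlift n
    show a ∈ (K ^ (n + 1)).ideal Wa
    rw [← Scheme.IdealSheafData.ker_subschemeι_app, ← ht, RingHom.mem_ker]
    show (t.app (f ⁻¹ᵁ W)) (f.app W a) = 0
    rw [show f.app W a = 0 from ha, map_zero]
  let P : Ideal Γ(Y, W) := (hW.primeIdealOf ⟨y, hyW⟩).asIdeal
  have hbas : ∀ a : Γ(Y, W), a ∉ P → y ∈ Y.basicOpen a := fun a ha => by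
    have h1 : hW.primeIdealOf ⟨y, hyW⟩ ∈ hW.fromSpec ⁻¹ᵁ Y.basicOpen a := by
      rw [hW.fromSpec_preimage_basicOpen]; exact ha
    rw [Scheme.Hom.mem_preimage, IsAffineOpen.fromSpec_primeIdealOf] at h1
    exact h1
  have hKP : K.ideal Wa ≤ P := by
    have h1 : y ∈ Y.zeroLocus (U := W) (K.ideal Wa : Set Γ(Y, W)) ∩ W :=
      (Scheme.IdealSheafData.coe_support_inter K Wa).le ⟨hy, hyW⟩
    intro a ha
    by_contra hn
    exact (Scheme.mem_zeroLocus_iff _ _ _).1 h1.1 a ha (hbas a hn)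
  have hex : ∀ a ∈ I, ∃ s : Γ(Y, W), s ∉ P ∧ s * a = 0 := fun a ha => by
    have : a ∈ (⨅ i : ℕ, K.ideal Wa ^ i • ⊤ : Submodule Γ(Y, W) Γ(Y, W)) := by
      refine Submodule.mem_iInf _ |>.2 fun i => ?_
      rw [smul_eq_mul, Ideal.mul_top]
      cases i with
      | zero => simp
      | succ n => exact hIn n ha
    obtain ⟨r, hr⟩ := (Ideal.mem_iInf_smul_pow_eq_bot_iff _ a).1 this
    refine ⟨1 - r.1, fun h => (Ideal.IsPrime.ne_top inferInstance) (P.eq_top_iff_one.2 ?_), ?_⟩
    · simpa using P.add_mem h (hKP r.2)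
    · rw [sub_mul, one_mul, ← smul_eq_mul, hr, sub_self]
  obtain ⟨T, hT⟩ := (IsNoetherian.noetherian I : I.FG)
  choose s hsP hs using hex
  have hTI : ∀ a ∈ T, a ∈ I := fun a ha => hT.le (Submodule.subset_span ha)
  let σ : Γ(Y, W) := ∏ a ∈ T.attach, s a.1 (hTI a.1 a.2)
  have hσP : σ ∉ P := fun h => by
    obtain ⟨a, -, ha⟩ := Ideal.IsPrime.prod_mem_iff.1 h
    exact hsP _ _ ha
  have hσ : ∀ a ∈ I, σ * a = 0 := fun a ha => by
    rw [← hT] at ha
    refine Submodule.span_induction (fun b hb => ?_) (mul_zero σ) (fun b c _ _ hb hc => by rw [mul_add, hb, hc, add_zero])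
      (fun r b _ hb => by rw [smul_eq_mul, mul_left_comm, hb, mul_zero]) ha
    obtain ⟨c, hc⟩ := Finset.dvd_prod_of_mem (fun a : {a // a ∈ T} => s a.1 (hTI a.1 a.2)) (Finset.mem_attach T ⟨b, hb⟩)
    show σ * b = 0
    rw [show σ = s b (hTI b hb) * c from hc, mul_right_comm, hs, zero_mul]
  refine ⟨Y.basicOpen σ, hbas σ hσP, ?_⟩
  have hDW : Y.basicOpen σ ≤ W := Y.basicOpen_le σ
  have : IsClosedImmersion (f ∣_ Y.basicOpen σ) := of_le (Q := @IsClosedImmersion) (hDW.trans hWU) hU
  have : IsAffine (Y.basicOpen σ).toScheme := hW.basicOpen σ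
  apply IsClosedImmersion.isIso_of_injective_of_isAffine
  have hWa : IsAffineOpen (f ⁻¹ᵁ W) := by
    have : IsAffine W.toScheme := hW
    exact isAffine_of_isAffineHom (f ∣_ W)
  have hinj : Function.Injective (f.app (Y.basicOpen σ)) := by
    rw [injective_iff_map_eq_zero]
    intro b hb
    have := hW.isLocalization_basicOpen σ
    have := hWa.isLocalization_basicOpen (φ σ)
    obtain ⟨⟨a, ⟨_, k, rfl⟩⟩, ha⟩ := IsLocalization.surj (M := Submonoid.powers σ) b
    have ha' : b * algebraMap Γ(Y, W) Γ(Y, Y.basicOpen σ) (σ ^ k) = algebraMap Γ(Y, W) Γ(Y, Y.basicOpen σ) a := ha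
    have e : f ⁻¹ᵁ Y.basicOpen σ = X.basicOpen (φ σ) := Scheme.preimage_basicOpen f σ
    have h0 : X.presheaf.map (homOfLE (X.basicOpen_le (φ σ))).op (φ a) = 0 := by
      have h1 : (f.app (Y.basicOpen σ)) (Y.presheaf.map (homOfLE hDW).op a) = 0 := by
        rw [show Y.presheaf.map (homOfLE hDW).op a = algebraMap Γ(Y, W) Γ(Y, Y.basicOpen σ) a from rfl, ← ha', map_mul, hb, zero_mul]
      have h2 := congrArg (fun g => g a) (f.naturality (homOfLE hDW).op)
      simp only [ConcreteCategory.comp_apply] at h2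
      rw [h2] at h1
      have h3 := congrArg (X.presheaf.map (eqToHom e.symm).op) h1
      rw [map_zero, ← ConcreteCategory.comp_apply, ← X.presheaf.map_comp] at h3
      exact h3
    obtain ⟨⟨_, m, rfl⟩, hm⟩ := (IsLocalization.map_eq_zero_iff (Submonoid.powers (φ σ)) Γ(X, X.basicOpen (φ σ)) (φ a)).1 h0
    have hmem : σ ^ m * a ∈ I := by
      show φ (σ ^ m * a) = 0
      rw [map_mul, map_pow]; exact hm
    have h4 : σ ^ (m + 1) * a = 0 := by rw [pow_succ', mul_assoc, hσ _ hmem]
    have hu : ∀ j, IsUnit (algebraMap Γ(Y, W) Γ(Y, Y.basicOpen σ) (σ ^ j)) := fun j =>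
      IsLocalization.map_units (M := Submonoid.powers σ) _ ⟨σ ^ j, j, rfl⟩
    have h5 := congrArg (algebraMap Γ(Y, W) Γ(Y, Y.basicOpen σ)) h4
    rw [map_mul, map_zero, (hu _).mul_right_eq_zero, ← ha', (hu k).mul_left_eq_zero] at h5
    exact h5
  rw [morphismRestrict_appTop]
  have key : ∀ O : Y.Opens, O = Y.basicOpen σ → Function.Injective (f.app O) := fun O hO => hO ▸ hinj
  exact (ConcreteCategory.bijective_of_isIso (X.presheaf.map (eqToHom (image_morphismRestrict_preimage f (Y.basicOpen σ) ⊤)).op)).1.comp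
    (key _ (Scheme.Opens.ι_image_top _))

theorem range_toX (K : Y.IdealSheafData) (n : ℕ) :
    Set.range (FSch.completionToX Y K n) = (K.support : Set Y) := by
  show Set.range ((K ^ (n + 1)).subschemeι) = _
  rw [Scheme.IdealSheafData.range_subschemeι, Scheme.IdealSheafData.support_pow_succ]

variable [IsLocallyNoetherian Z]

omit [IsLocallyNoetherian Z] in
theorem isClosedImmersion_levels_iff (h : Y ⟶ Z) [IsProper h] (f : X ⟶ Y) [IsProper f]
    (K : Y.IdealSheafData) (𝓙 : Z.IdealSheafData) (hK : K = 𝓙.comap h)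
    (hc : FSch.PowCompat f (K.comap f) K) :
    (∀ n : ℕ, IsClosedImmersion ((FSch.completionMap f (K.comap f) K hc : FSch.Hom _ _).app n)) ↔
      ∃ U : Z.Opens, (𝓙.support : Set Z) ⊆ U ∧ IsClosedImmersion (f ∣_ h ⁻¹ᵁ U) := by
  have big := (Groth.Agent.S3862.result f K hc).1
  constructor
  · intro H
    refine exists_open_of_nhds (Q := @IsClosedImmersion) h _ fun y hy => ?_
    have := H 0
    have hy' : y ∈ K.support := by
      rw [hK, Scheme.IdealSheafData.support_comap]; exact hy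
    have hyr : y ∈ Set.range (FSch.completionToX Y K 0) := by
      rw [range_toX]; exact hy'
    exact Groth.Agent.SchMor12.exists_isClosedImmersion_nhd f y (fibre_of_isPullback (big 0) hyr) (V := ⊤) trivial
      (IsZariskiLocalAtTarget.restrict (P := @UniversallyClosed) inferInstance _)
  · rintro ⟨U, hS, hU⟩ n
    refine of_isPullback_of_range_subset (Q := @IsClosedImmersion) (big n) ?_ hU
    rw [range_toX, hK, Scheme.IdealSheafData.support_comap]
    exact fun y hy => hS hy

theorem isIso_levels_iff (h : Y ⟶ Z) [IsProper h] (f : X ⟶ Y) [IsProper f]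
    (K : Y.IdealSheafData) (𝓙 : Z.IdealSheafData) (hK : K = 𝓙.comap h)
    (hc : FSch.PowCompat f (K.comap f) K) :
    (∀ n : ℕ, IsIso ((FSch.completionMap f (K.comap f) K hc : FSch.Hom _ _).app n)) ↔
      ∃ U : Z.Opens, (𝓙.support : Set Z) ⊆ U ∧ IsIso (f ∣_ h ⁻¹ᵁ U) := by
  have big := (Groth.Agent.S3862.result f K hc).1
  have : IsLocallyNoetherian Y := LocallyOfFiniteType.isLocallyNoetherian h
  constructor
  · intro H
    refine exists_open_of_nhds (Q := MorphismProperty.isomorphisms Scheme) h _ fun y hy => ?_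
    obtain ⟨U, hS, hU⟩ := (isClosedImmersion_levels_iff h f K 𝓙 hK hc).1 fun n => by
      have := H n
      infer_instance
    have hy' : y ∈ K.support := by
      rw [hK, Scheme.IdealSheafData.support_comap]; exact hy
    exact exists_isIso_nhd f K y hy' (U := h ⁻¹ᵁ U) (hS hy) hU fun n => by
      have := H n
      exact ⟨inv ((FSch.completionMap f (K.comap f) K hc : FSch.Hom _ _).app n) ≫ FSch.completionToX X (K.comap f) n,
        by rw [Category.assoc, (big n).w, IsIso.inv_hom_id_assoc]⟩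
  · rintro ⟨U, hS, hU⟩ n
    refine of_isPullback_of_range_subset (Q := MorphismProperty.isomorphisms Scheme) (big n) ?_ hU
    rw [range_toX, hK, Scheme.IdealSheafData.support_comap]
    exact fun y hy => hS hy

end Groth.Agent.FSchLib.Near
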